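import Cfsg.Agent.H44.ClassTools
import Cfsg.Agent.S4856
import Cfsg.Agent.H26.CharLinear

/-!
# Groups with `χ(1) - χ(u) = 4` or `χ(u) = 0`: the characters
-/

set_option autoImplicit false
open scoped ComplexConjugate

namespace Cfsg.Agent.H44.ConstantFour

variable {G : Type*} [Group G] [Finite G]

/-- Four characters carry all the values at `u`. -/
structure Chars (u : G) where
  a : Cfsg.IrrCharacter G
  b : Cfsg.IrrCharacter G
  c : Cfsg.IrrCharacter G
  ne_one : a ≠ H26.oneIrr G ∧ b ≠ H26.oneIrr G ∧ c ≠ H26.oneIrr G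
  ne : a ≠ b ∧ a ≠ c ∧ b ≠ c
  deg : a.1 1 = 3 ∧ b.1 1 = 3 ∧ c.1 1 = 5
  val : a.1 u = -1 ∧ b.1 u = -1 ∧ c.1 u = 1
  vanish : ∀ χ : Cfsg.IrrCharacter G,
    χ ≠ H26.oneIrr G → χ ≠ a → χ ≠ b → χ ≠ c → χ.1 u = 0

/-- No nontrivial linear character, so the group is perfect. -/
theorem perfect {u : G}
    (hyp : ∀ χ : Cfsg.IrrCharacter G, χ ≠ H26.oneIrr G → (χ.1 1 - χ.1 u = 4 ∨ χ.1 u = 0)) :
    commutator G = ⊤ := by
  refine eq_top_iff.mpr fun g _ => mem_of_forall_kerOf (commutator G) fun χ hχ => ?_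
  by_cases hne : χ = H26.oneIrr G
  · subst hne
    rw [kerOf_oneIrr]; trivial
  · exfalso
    have h1 := (irr_one_eq_one_iff χ).mpr hχ
    obtain ⟨f, hf⟩ := H26.exists_hom_of_isCharacter_one (H26.irr_isCharacter χ) h1
    have hn : ‖χ.1 u‖ = 1 := by
      rw [← hf u]
      have h : (f u : ℂ) ^ orderOf u = 1 := by
        rw [← Units.val_pow_eq_pow_val, ← map_pow, pow_orderOf_eq_one, map_one, Units.val_one]
      exact Complex.norm_eq_one_of_pow_eq_one h (orderOf_pos u).ne'
    rcases hyp χ hne with h | h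
    · rw [h1] at h
      rw [show χ.1 u = -3 by linear_combination -h, norm_neg] at hn
      norm_num at hn
    · rw [h, norm_zero] at hn
      exact zero_ne_one hn

/-- Exactly three nonprincipal characters do not vanish at `u`. -/
theorem exists_chars {u : G} (hu : u ≠ 1)
    (hyp : ∀ χ : Cfsg.IrrCharacter G, χ ≠ H26.oneIrr G → (χ.1 1 - χ.1 u = 4 ∨ χ.1 u = 0)) :
    Nonempty (Chars u) := by
  classical
  haveI := Fintype.ofFinite G
  have hperf := perfect hyp
  set D : Cfsg.IrrCharacter G → ℕ := fun χ => Cfsg.charDegree (χ : G → ℂ) with hD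
  have hcast : ∀ χ, (D χ : ℂ) = χ.1 1 := fun χ => cast_charDegree χ
  set S := Finset.univ.filter (fun χ : Cfsg.IrrCharacter G => χ ≠ H26.oneIrr G ∧ χ.1 u ≠ 0) with hS
  have hmem : ∀ χ ∈ S, χ.1 u = (((D χ : ℝ) - 4 : ℝ) : ℂ) ∧ 2 ≤ D χ ∧ D χ ≠ 4 := by
    intro χ hχ
    obtain ⟨hne, h0⟩ := (Finset.mem_filter.mp hχ).2
    have h := (hyp χ hne).resolve_right h0
    have hval : χ.1 u = (((D χ : ℝ) - 4 : ℝ) : ℂ) := by
      push_cast; rw [hcast]; linear_combination -h
    refine ⟨hval, ?_, fun e => h0 (by rw [hval, e]; norm_num)⟩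
    have h1 := charDegree_pos χ
    by_contra h2
    have h1' : χ.1 1 = 1 := by
      rw [← hcast, show D χ = 1 by simp only [hD] at h2 ⊢; omega, Nat.cast_one]
    refine hne (Subtype.ext (funext fun g => ?_))
    have := (irr_one_eq_one_iff χ).mp h1' (hperf ▸ Subgroup.mem_top g)
    rw [mem_kerOf.mp this, h1', H26.oneIrr_val]
  have hsum : ∀ F : Cfsg.IrrCharacter G → ℂ, (∀ χ, χ.1 u = 0 → F χ = 0) →
      ∑ χ, F χ = F (H26.oneIrr G) + ∑ χ ∈ S, F χ := by
    intro F hF
    rw [← Finset.add_sum_erase _ _ (Finset.mem_univ (H26.oneIrr G))]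
    congr 1
    symm
    refine Finset.sum_subset (fun χ hχ => ?_) fun χ hχ hχ' => hF χ ?_
    · exact Finset.mem_erase.mpr ⟨(Finset.mem_filter.mp hχ).2.1, Finset.mem_univ _⟩
    · by_contra h0
      exact hχ' (Finset.mem_filter.mpr ⟨Finset.mem_univ _, (Finset.mem_erase.mp hχ).1, h0⟩)
  -- column orthogonality
  have hcol : ∑ χ ∈ S, ((D χ : ℝ) - 4) * (D χ : ℝ) = -1 := by
    have h := H26.column_orthogonality u (1 : G)
    rw [show H26.classIndicator (1 : G) u = 0 from
      if_neg (fun h => hu (isConj_one_left.mp h)), mul_zero,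
      hsum _ fun χ h0 => by rw [h0, zero_mul]] at h
    rw [H26.oneIrr_val, H26.oneIrr_val, map_one, mul_one,
      Finset.sum_congr rfl (fun χ hχ => by
        rw [(hmem χ hχ).1, ← hcast, Complex.conj_natCast, ← Complex.ofReal_natCast,
          ← Complex.ofReal_mul]), ← Complex.ofReal_sum] at h
    have := congrArg Complex.re h
    simp only [Complex.add_re, Complex.one_re, Complex.ofReal_re, Complex.zero_re] at this
    linarith
  -- the number of commutators equal to `u`
  have hpair : 0 ≤ 1 + ∑ χ ∈ S, ((D χ : ℝ) - 4) / (D χ : ℝ) := by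
    have h := Cfsg.Agent.S4856.result u
    rw [finsum_eq_sum_of_fintype, hsum _ (fun χ h0 => by rw [h0, zero_div]), H26.oneIrr_val,
      H26.oneIrr_val, div_one, Finset.sum_congr rfl (fun χ hχ => by
        rw [(hmem χ hχ).1, ← hcast, ← Complex.ofReal_natCast, ← Complex.ofReal_div]),
      ← Complex.ofReal_sum, ← Complex.ofReal_one, ← Complex.ofReal_add,
      ← Complex.ofReal_natCast (Nat.card G), ← Complex.ofReal_mul] at h
    have h2 := congrArg Complex.re h
    simp only [Complex.ofReal_re, Complex.natCast_re] at h2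
    refine nonneg_of_mul_nonneg_right (a := (Nat.card G : ℝ)) ?_ (Nat.cast_pos.mpr Nat.card_pos)
    rw [← h2]; positivity
  set f : ℕ → ℝ := fun d => ((d : ℝ) - 4) * d - 9 * (((d : ℝ) - 4) / d) with hf
  have hfsum : ∑ χ ∈ S, f (D χ) ≤ 8 := by
    simp only [hf]
    rw [Finset.sum_sub_distrib, ← Finset.mul_sum, hcol]
    linarith
  have hf_nonneg : ∀ d : ℕ, 2 ≤ d → d ≠ 4 → 0 ≤ f d ∧ (6 ≤ d → 9 ≤ f d) := by
    intro d h2 h4
    have h2' : (2 : ℝ) ≤ d := by exact_mod_cast h2
    have hfd : f d = ((d : ℝ) - 4) * ((d : ℝ) ^ 2 - 9) / d := by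
      simp only [hf]; field_simp; try ring
    rw [hfd]
    refine ⟨div_nonneg ?_ (by linarith), fun h6 => ?_⟩
    · rcases (show d ≤ 3 ∨ 5 ≤ d by omega) with h | h
      · have h3 : (d : ℝ) ≤ 3 := by exact_mod_cast h
        exact mul_nonneg_of_nonpos_of_nonpos (by linarith) (by nlinarith)
      · have h5 : (5 : ℝ) ≤ d := by exact_mod_cast h
        exact mul_nonneg (by linarith) (by nlinarith)
    · have h6' : (6 : ℝ) ≤ d := by exact_mod_cast h6
      rw [le_div_iff₀ (by linarith)]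
      nlinarith [mul_nonneg (sub_nonneg.mpr h6') (sq_nonneg ((d : ℝ) - 6))]
  have h235 : ∀ χ ∈ S, D χ ∈ ({2, 3, 5} : Finset ℕ) := by
    intro χ hχ
    obtain ⟨-, h2, h4⟩ := hmem χ hχ
    by_contra hne
    simp only [Finset.mem_insert, Finset.mem_singleton, not_or] at hne
    have h9 := (hf_nonneg _ h2 h4).2 (by omega)
    have := (Finset.single_le_sum (f := fun ψ => f (D ψ)) (fun ψ hψ =>
      (hf_nonneg _ (hmem ψ hψ).2.1 (hmem ψ hψ).2.2).1) hχ)
    linarith
  set T : ℕ → Finset (Cfsg.IrrCharacter G) := fun k => S.filter (fun χ => D χ = k) with hT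
  have hfib : ∀ F : ℕ → ℝ, ∑ χ ∈ S, F (D χ) =
      (T 2).card * F 2 + (T 3).card * F 3 + (T 5).card * F 5 := by
    intro F
    rw [← Finset.sum_fiberwise_of_maps_to h235, Finset.sum_insert (by decide),
      Finset.sum_insert (by decide), Finset.sum_singleton,
      Finset.sum_congr rfl (fun χ hχ => by rw [(Finset.mem_filter.mp hχ).2]),
      Finset.sum_congr (rfl : S.filter (fun χ => D χ = 3) = _)
        (fun χ hχ => by rw [(Finset.mem_filter.mp hχ).2]),
      Finset.sum_congr (rfl : S.filter (fun χ => D χ = 5) = _)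
        (fun χ hχ => by rw [(Finset.mem_filter.mp hχ).2])]
    simp only [Finset.sum_const, nsmul_eq_mul, hT]
    ring
  rw [hfib f] at hfsum
  rw [hfib (fun d => ((d : ℝ) - 4) * d)] at hcol
  norm_num [hf] at hfsum hcol
  have e1 : 25 * (T 2).card + 16 * (T 5).card ≤ 40 := by
    have : (25 : ℝ) * (T 2).card + 16 * (T 5).card ≤ 40 := by linarith
    exact_mod_cast this
  have e2 : 4 * (T 2).card + 3 * (T 3).card = 5 * (T 5).card + 1 := by
    have : (4 : ℝ) * (T 2).card + 3 * (T 3).card = 5 * (T 5).card + 1 := by linarith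
    exact_mod_cast this
  obtain ⟨e20, e50⟩ : (T 2).card = 0 ∧ (T 5).card = 1 := by
    have h2b : (T 2).card ≤ 1 := by omega
    have h5b : (T 5).card ≤ 2 := by omega
    interval_cases h2 : (T 2).card <;> interval_cases h5 : (T 5).card <;> omega
  obtain ⟨a, b, hab, h3⟩ := Finset.card_eq_two.mp (show (T 3).card = 2 by omega)
  obtain ⟨c, h5⟩ := Finset.card_eq_one.mp (show (T 5).card = 1 by omega)
  have h20 : T 2 = ∅ := Finset.card_eq_zero.mp (by omega)
  have ha : a ∈ T 3 := by rw [h3]; simp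
  have hb : b ∈ T 3 := by rw [h3]; simp
  have hc : c ∈ T 5 := by rw [h5]; simp
  simp only [hT, Finset.mem_filter] at ha hb hc
  refine ⟨⟨a, b, c, ⟨(Finset.mem_filter.mp ha.1).2.1, (Finset.mem_filter.mp hb.1).2.1,
    (Finset.mem_filter.mp hc.1).2.1⟩, ⟨hab, ?_, ?_⟩, ⟨?_, ?_, ?_⟩, ⟨?_, ?_, ?_⟩, ?_⟩⟩
  · intro e; rw [e, hc.2] at ha; omega
  · intro e; rw [e, hc.2] at hb; omega
  · rw [← hcast, ha.2]; norm_num
  · rw [← hcast, hb.2]; norm_num
  · rw [← hcast, hc.2]; norm_num
  · rw [(hmem a ha.1).1, ha.2]; norm_num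
  · rw [(hmem b hb.1).1, hb.2]; norm_num
  · rw [(hmem c hc.1).1, hc.2]; norm_num
  · intro χ hne hna hnb hnc
    by_contra h0
    have hχ : χ ∈ S := Finset.mem_filter.mpr ⟨Finset.mem_univ _, hne, h0⟩
    have := h235 χ hχ
    simp only [Finset.mem_insert, Finset.mem_singleton] at this
    rcases this with h | h | h
    · have : χ ∈ T 2 := Finset.mem_filter.mpr ⟨hχ, h⟩
      simp [h20] at this
    · have : χ ∈ T 3 := Finset.mem_filter.mpr ⟨hχ, h⟩
      simp [h3, hna, hnb] at this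
    · have : χ ∈ T 5 := Finset.mem_filter.mpr ⟨hχ, h⟩
      simp [h5, hnc] at this

namespace Chars

variable {u : G} (C : Chars u)

/-- A sum of terms vanishing with the value at `u` has four terms. -/
theorem sum_eq [Fintype G] {R : Type*} [AddCommMonoid R] (F : Cfsg.IrrCharacter G → R)
    (hF : ∀ χ, χ.1 u = 0 → F χ = 0) :
    ∑ χ, F χ = F (H26.oneIrr G) + (F C.a + (F C.b + F C.c)) := by
  classical
  rw [← Finset.sum_subset (Finset.subset_univ {H26.oneIrr G, C.a, C.b, C.c}) fun χ _ hχ => hF χ ?_]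
  · rw [Finset.sum_insert (by simp [C.ne_one.1.symm, C.ne_one.2.1.symm, C.ne_one.2.2.symm]),
      Finset.sum_insert (by simp [C.ne.1, C.ne.2.1]), Finset.sum_insert (by simp [C.ne.2.2]),
      Finset.sum_singleton]
  · simp only [Finset.mem_insert, Finset.mem_singleton, not_or] at hχ
    exact C.vanish χ hχ.1 hχ.2.1 hχ.2.2.1 hχ.2.2.2

include C in
/-- The centralizer of `u` has order four. -/
theorem card_centralizer : Nat.card (Subgroup.centralizer ({u} : Set G)) = 4 := by
  haveI := Fintype.ofFinite G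
  have h := sum_norm_sq_eq_card_centralizer u
  rw [C.sum_eq _ (fun χ h0 => by simp [h0]), H26.oneIrr_val, C.val.1, C.val.2.1, C.val.2.2] at h
  norm_num at h
  exact_mod_cast h.symm

end Chars

end Cfsg.Agent.H44.ConstantFour
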