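import Cfsg.Agent.H44.ConstantFour.Structure

/-!
# Groups with `χ(1) - χ(u) = 4` or `χ(u) = 0`: `u` of order four
-/

set_option autoImplicit false

namespace Cfsg.Agent.H44.ConstantFour

variable {G : Type*} [Group G] [Finite G]

omit [Finite G] in
/-- An involution in a cyclic group of order four is the square of a generator. -/
theorem eq_sq_of_mem_zpowers {x y : G} (h4 : x ^ 4 = 1) (hy : y ∈ Subgroup.zpowers x)
    (h2 : y * y = 1) (h1 : y ≠ 1) (hx2 : x * x ≠ 1) : y = x * x := by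
  obtain ⟨i, rfl⟩ := Subgroup.mem_zpowers_iff.mp hy
  have h4' : x ^ (4 : ℤ) = 1 := by exact_mod_cast h4
  have hr : x ^ i = x ^ (i % 4) := by
    conv_lhs => rw [← Int.emod_add_mul_ediv i 4, zpow_add, zpow_mul, h4', one_zpow, mul_one]
  rw [hr] at h1 h2 ⊢
  have hcases : i % 4 = 0 ∨ i % 4 = 1 ∨ i % 4 = 2 ∨ i % 4 = 3 := by omega
  rcases hcases with h | h | h | h <;> rw [h] at h1 h2 ⊢
  · exact absurd (zpow_zero x) h1
  · rw [zpow_one] at h2; exact absurd h2 hx2
  · exact zpow_two x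
  · exfalso
    apply hx2
    calc x * x = x ^ (3 : ℤ) * x ^ (3 : ℤ) * (x ^ (4 : ℤ))⁻¹ := by
          rw [← zpow_neg, ← zpow_add, ← zpow_add, ← zpow_two]; norm_num
      _ = 1 := by rw [h2, h4', inv_one, mul_one]

omit [Finite G] in
/-- Conjugate elements have the same order. -/
theorem orderOf_eq_of_conj {a b : G} (h : IsConj a b) : orderOf a = orderOf b := by
  obtain ⟨c, rfl⟩ := isConj_iff.mp h
  exact (MulEquiv.orderOf_eq (MulAut.conj c) a).symm

omit [Finite G] in
/-- An element of odd order squaring into a subgroup is in it. -/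
theorem mem_of_sq_mem {N : Subgroup G} {x : G} (hx : Odd (orderOf x)) (h : x * x ∈ N) : x ∈ N := by
  obtain ⟨k, hk⟩ := hx
  have h' : x = (x * x) ^ (k + 1) := by
    rw [← pow_two, ← pow_mul, show 2 * (k + 1) = orderOf x + 1 by omega, pow_add,
      pow_orderOf_eq_one, one_mul, pow_one]
  rw [h']
  exact pow_mem h _

namespace Chars

variable {u : G} (C : Chars u) (hperf : commutator G = ⊤) (h2 : u * u ≠ 1)

include C h2

theorem order_four : orderOf u = 4 := by
  have hd : orderOf u ∣ 4 := C.card_centralizer ▸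
    Subgroup.orderOf_dvd_natCard _ (Subgroup.mem_centralizer_singleton_iff.mpr rfl)
  obtain ⟨k, hk, e⟩ := (Nat.dvd_prime_pow Nat.prime_two (m := 2)).mp (by simpa using hd)
  interval_cases k
  · rw [pow_zero, orderOf_eq_one_iff] at e; exact absurd (by rw [e, mul_one]) h2
  · exfalso; apply h2
    rw [← pow_two, show 2 = orderOf u by rw [e, pow_one], pow_orderOf_eq_one]
  · exact e

/-- The conjugates of `u` generate their centralizers. -/
theorem of_isConj {x : G} (hx : IsConj x u) :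
    orderOf x = 4 ∧ x * x ≠ 1 ∧ Subgroup.centralizer ({x} : Set G) = Subgroup.zpowers x := by
  classical
  haveI := Fintype.ofFinite G
  have ho : orderOf x = 4 := by
    rw [← C.order_four h2]; exact orderOf_eq_of_conj hx
  refine ⟨ho, fun e => ?_, ?_⟩
  · have := orderOf_dvd_of_pow_eq_one (x := x) (n := 2) (by rw [pow_two, e])
    rw [ho] at this
    norm_num at this
  · refine (Subgroup.eq_of_le_of_card_ge
      (Subgroup.zpowers_le.mpr (Subgroup.mem_centralizer_singleton_iff.mpr rfl)) ?_).symm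
    rw [Nat.card_zpowers, ho, H26.card_centralizer_eq_of_isConj hx, C.card_centralizer]

/-- An involution commuting with a conjugate of `u` is its square. -/
theorem invol_eq {x y : G} (hx : IsConj x u) (hc : y * x = x * y) (hy : y * y = 1) (hy1 : y ≠ 1) :
    y = x * x := by
  obtain ⟨ho, hx2, hC⟩ := C.of_isConj h2 hx
  exact eq_sq_of_mem_zpowers (ho ▸ pow_orderOf_eq_one x)
    (hC ▸ Subgroup.mem_centralizer_singleton_iff.mpr hc) hy hy1 hx2

/-- A conjugate of `u` commutes with no element of odd order except `1`. -/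
theorem fpf {x w : G} (hx : IsConj x u) (hc : x * w = w * x) (hw : Odd (orderOf w)) : w = 1 := by
  obtain ⟨ho, -, hC⟩ := C.of_isConj h2 hx
  have hmem : w ∈ Subgroup.zpowers x := hC ▸ Subgroup.mem_centralizer_singleton_iff.mpr hc.symm
  have hd := Subgroup.orderOf_dvd_natCard _ hmem
  rw [Nat.card_zpowers, ho] at hd
  rw [← orderOf_eq_one_iff]
  have hco : Nat.Coprime (orderOf w) 4 := by
    rw [show (4 : ℕ) = 2 ^ 2 by norm_num]
    exact Nat.Coprime.pow_right 2 (Nat.coprime_two_right.mpr hw)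
  exact Nat.eq_one_of_dvd_coprimes hco dvd_rfl hd

include hperf

/-- A four-group of conjugates around a Sylow 2-subgroup of order eight. -/
theorem sylow_facts : ∃ v : G,
    IsConj v u ∧ IsConj (u * v) u ∧ v * v = u * u ∧ u * v * (u * v) = u * u ∧
    ¬ 4 ∣ Nat.card C.M ∧ 2 ∣ Nat.card C.M := by
  classical
  have : Fact (Nat.Prime 2) := ⟨Nat.prime_two⟩
  have ho := C.order_four h2
  obtain ⟨-, -, hCu⟩ := C.of_isConj h2 (IsConj.refl u)
  obtain ⟨h60, hfus⟩ := C.order_and_fusion hperf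
  have hq1 := C.mk_ne_one
  have hq2 := C.mk_sq hperf
  set z := u * u with hz
  have hzM : z ∈ C.M := by rw [← QuotientGroup.eq_one_iff, hz, QuotientGroup.mk_mul, hq2]
  have hzz : z * z = 1 := by
    rw [hz, ← pow_two u, ← pow_two, ← pow_mul, show 2 * 2 = orderOf u by rw [ho],
      pow_orderOf_eq_one]
  obtain ⟨P, hP⟩ := (IsPGroup.of_card (p := 2) (n := 2)
    (show Nat.card (Subgroup.zpowers u) = 2 ^ 2 by rw [Nat.card_zpowers, ho]; norm_num)).exists_le_sylow
  have huP : u ∈ (P : Subgroup G) := hP (Subgroup.mem_zpowers u)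
  set f := QuotientGroup.mk' C.M with hf
  set Q : Sylow 2 (G ⧸ C.M) := P.mapSurjective (QuotientGroup.mk'_surjective C.M) with hQ
  have hQ4 : Nat.card (Q : Subgroup (G ⧸ C.M)) = 2 ^ 2 := by
    rw [Q.card_eq_multiplicity, h60]
    congr 1
    rw [show (60 : ℕ) = 2 ^ 2 * 15 by norm_num, Nat.factorization_mul (by norm_num) (by norm_num),
      Nat.Prime.factorization_pow Nat.prime_two]
    simp [Nat.factorization_eq_zero_of_not_dvd (show ¬ 2 ∣ 15 by norm_num)]
  have hQeq : (Q : Subgroup (G ⧸ C.M)) = Subgroup.centralizer {(u : G ⧸ C.M)} := by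
    refine Subgroup.eq_of_le_of_card_ge (fun y hy => ?_) (by rw [hQ4, C.card_centralizer_mk]; norm_num)
    rw [Subgroup.mem_centralizer_singleton_iff]
    exact congrArg Subtype.val (IsPGroup.commutative_of_card_eq_prime_sq hQ4
      (⟨y, hy⟩ : (Q : Subgroup (G ⧸ C.M))) ⟨f u, u, huP, rfl⟩)
  obtain ⟨v', hv, hv1, hvu⟩ := C.exists_third
  obtain ⟨v, hvP, hvv⟩ : v' ∈ (P : Subgroup G).map f := by
    rw [← Sylow.coe_mapSurjective (QuotientGroup.mk'_surjective C.M) P, ← hQ, hQeq]
    exact Subgroup.mem_centralizer_singleton_iff.mpr hv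
  subst hvv
  -- centre of `P`
  have hzC : ∀ p ∈ (P : Subgroup G), z * p = p * z := by
    haveI : Nontrivial (P : Subgroup G) :=
      ⟨⟨u, huP⟩, 1, fun e => h2 (by rw [hz, show u = 1 from congrArg Subtype.val e, mul_one])⟩
    haveI := P.isPGroup'.center_nontrivial
    obtain ⟨c, hc1⟩ := exists_ne (1 : Subgroup.center (P : Subgroup G))
    set c0 : G := ((c.1 : (P : Subgroup G)) : G) with hc0
    have hcc : ∀ p ∈ (P : Subgroup G), c0 * p = p * c0 := fun p hp =>
      (congrArg Subtype.val (Subgroup.mem_center_iff.mp c.2 ⟨p, hp⟩)).symm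
    have hcu : c0 ∈ Subgroup.zpowers u :=
      hCu ▸ Subgroup.mem_centralizer_singleton_iff.mpr (hcc u huP)
    have hne : c0 ≠ 1 := fun e => hc1 (Subtype.ext (Subtype.ext e))
    have h4 : c0 * c0 * (c0 * c0) = 1 := by
      have hd := Subgroup.orderOf_dvd_natCard _ hcu
      rw [Nat.card_zpowers, ho] at hd
      rw [← pow_two c0, ← pow_two, ← pow_mul]
      exact orderOf_dvd_iff_pow_eq_one.mp hd
    by_cases hs : c0 * c0 = 1
    · have := eq_sq_of_mem_zpowers (ho ▸ pow_orderOf_eq_one u) hcu hs hne h2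
      intro p hp
      rw [hz, ← this]; exact hcc p hp
    · have := eq_sq_of_mem_zpowers (ho ▸ pow_orderOf_eq_one u) (mul_mem hcu hcu) h4 hs h2
      intro p hp
      rw [hz, ← this, mul_assoc, hcc p hp, ← mul_assoc, hcc p hp, mul_assoc]
  have sq_z : ∀ x ∈ (P : Subgroup G), IsConj x u → x * x = z := fun x hx hxu =>
    (C.invol_eq h2 hxu (hzC x hx) hzz h2).symm
  have hmv : ∀ x : G, x ∈ C.M → (x : G ⧸ C.M) = 1 := fun x hx => (QuotientGroup.eq_one_iff x).mpr hx
  have hw1 : (u : G ⧸ C.M) * (v : G ⧸ C.M) ≠ 1 := fun e => hvu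
    ((eq_inv_of_mul_eq_one_right e).trans (inv_eq_of_mul_eq_one_left hq2))
  have hv' : (v : G ⧸ C.M) * (u : G ⧸ C.M) = (u : G ⧸ C.M) * v := hv
  have cu : ∀ t ∈ C.M, IsConj (u * t) u := fun t h => C.conj_lift_of_commute hperf
    (by rw [QuotientGroup.mk_mul, hmv t h, mul_one]) (by rw [QuotientGroup.mk_mul, hmv t h, mul_one]; exact hq1)
  have cv : ∀ t ∈ C.M, IsConj (v * t) u := fun t h => C.conj_lift_of_commute hperf
    (by rw [QuotientGroup.mk_mul, hmv t h, mul_one]; exact hv)
    (by rw [QuotientGroup.mk_mul, hmv t h, mul_one]; exact hv1)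
  have cw : ∀ t ∈ C.M, IsConj (u * v * t) u := fun t h => C.conj_lift_of_commute hperf
    (by rw [QuotientGroup.mk_mul, hmv t h, mul_one, QuotientGroup.mk_mul, mul_assoc, hv'])
    (by rw [QuotientGroup.mk_mul, hmv t h, mul_one, QuotientGroup.mk_mul]; exact hw1)
  have cv1 : IsConj v u := by simpa using cv 1 (one_mem _)
  have cw1 : IsConj (u * v) u := by simpa using cw 1 (one_mem _)
  refine ⟨v, cv1, cw1, sq_z v hvP cv1, sq_z _ (mul_mem huP hvP) cw1, ?_⟩
  have inv : ∀ x ∈ (P : Subgroup G), (∀ t ∈ C.M, IsConj (x * t) u) → ∀ t ∈ C.M,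
      t ∈ (P : Subgroup G) → x * t * x⁻¹ = t⁻¹ := fun x hxP hx t ht htP => by
    have hxx : x * x = z := sq_z x hxP (by simpa using hx 1 (one_mem _))
    exact inverts_of_sq (by rw [sq_z _ (mul_mem hxP htP) (hx t ht), hxx])
      (by rw [hxx]; exact hzC t htP)
  have hT : ∀ t ∈ C.M, t ∈ (P : Subgroup G) → t = 1 ∨ t = z := by
    intro t ht htP
    have a := inv u huP cu t ht htP
    have b := inv v hvP cv t ht htP
    have c := inv _ (mul_mem huP hvP) cw t ht htP
    have d : t = t⁻¹ := by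
      calc t = (u * t⁻¹ * u⁻¹) := by
            rw [show u * t⁻¹ * u⁻¹ = (u * t * u⁻¹)⁻¹ by group, a, inv_inv]
        _ = u * v * t * (u * v)⁻¹ := by rw [← b]; group
        _ = t⁻¹ := c
    rw [← d] at a
    by_cases h1 : t = 1
    · exact Or.inl h1
    · exact Or.inr (C.invol_eq h2 (IsConj.refl u) (mul_inv_eq_iff_eq_mul.mp a).symm
        (mul_eq_one_iff_eq_inv.mpr d) h1)
  set φ := f.comp (P : Subgroup G).subtype with hφ
  have hker : Nat.card φ.ker ≤ 2 := by
    let ι : φ.ker → ({1, z} : Set G) := fun t => ⟨t.1.1, by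
      rcases hT t.1.1 ((QuotientGroup.eq_one_iff t.1.1).mp t.2) t.1.2 with h | h
      · exact Or.inl h
      · exact Or.inr h⟩
    refine (Nat.card_le_card_of_injective ι fun a b h => ?_).trans ?_
    · exact Subtype.ext (Subtype.ext (congrArg (fun x : ({1, z} : Set G) => x.1) h))
    · rw [Nat.card_coe_set_eq]
      exact (Set.ncard_insert_le _ _).trans (by rw [Set.ncard_singleton])
  have hrange : Nat.card φ.range = 4 := by
    rw [hφ, MonoidHom.range_comp, Subgroup.range_subtype,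
      ← Sylow.coe_mapSurjective (QuotientGroup.mk'_surjective C.M) P, ← hQ, hQ4]
    norm_num
  have hP8 : Nat.card (P : Subgroup G) ≤ 8 := by
    rw [← φ.ker.card_mul_index, Subgroup.index_ker, hrange]
    omega
  have hcG : Nat.card G = 60 * Nat.card C.M := by
    rw [Subgroup.card_eq_card_quotient_mul_card_subgroup C.M, h60]
  constructor
  · intro h4
    have h16 : 2 ^ 4 ∣ Nat.card G := by
      rw [hcG, show (2 : ℕ) ^ 4 = 4 * 4 by norm_num]
      exact Nat.mul_dvd_mul (by norm_num) h4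
    have hle : 4 ≤ (Nat.card G).factorization 2 :=
      (Nat.prime_two.pow_dvd_iff_le_factorization Nat.card_pos.ne').mp h16
    rw [P.card_eq_multiplicity] at hP8
    have := Nat.pow_le_pow_right (n := 2) (by norm_num) hle
    omega
  · have hzo : orderOf z = 2 := orderOf_eq_prime (by rw [pow_two, hzz]) h2
    exact hzo ▸ Subgroup.orderOf_dvd_natCard _ hzM

/-- The odd core has index two in `M`, is abelian, and the quotient is `SL(2,5)`. -/
theorem structure_four : IsMulCommutative ↥(Cfsg.oddCore G) ∧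
    Nonempty (G ⧸ Cfsg.oddCore G ≃* Matrix.SpecialLinearGroup (Fin 2) (ZMod 5)) := by
  classical
  have : Fact (Nat.Prime 2) := ⟨Nat.prime_two⟩
  obtain ⟨v, cv, cw, hvv, hww, hM4, hM2⟩ := C.sylow_facts hperf h2
  set z := u * u with hz
  obtain ⟨T⟩ : Nonempty (Sylow 2 C.M) := inferInstance
  have hT : Nat.card (T : Subgroup C.M) = 2 := by
    rw [T.card_eq_multiplicity]
    have h1 : ¬ 2 ≤ (Nat.card C.M).factorization 2 := fun h =>
      hM4 (by simpa using (Nat.prime_two.pow_dvd_iff_le_factorization Nat.card_pos.ne').mpr h)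
    have h3 : 1 ≤ (Nat.card C.M).factorization 2 :=
      (Nat.prime_two.pow_dvd_iff_le_factorization Nat.card_pos.ne').mp (by simpa using hM2)
    rw [show (Nat.card C.M).factorization 2 = 1 by omega, pow_one]
  haveI : IsCyclic (T : Subgroup C.M) := isCyclic_of_prime_card hT
  obtain ⟨N, hNn, hNodd, k, hk⟩ := H29.exists_normal_two_complement_of_cyclic T inferInstance
  haveI := hNn
  have hN2 : N.index = 2 := by
    have h := N.card_mul_index
    rw [hk] at h ⊢
    have hk2 : k < 2 := by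
      by_contra hk2
      exact hM4 (by rw [← h]; exact dvd_mul_of_dvd_right (pow_dvd_pow 2 (not_lt.mp hk2)) _)
    interval_cases k
    · rw [pow_zero, mul_one] at h
      exact absurd hM2 (h ▸ fun hd => (Nat.not_even_iff_odd.mpr hNodd) (even_iff_two_dvd.mpr hd))
    · rfl
  set N' : Subgroup G := N.map C.M.subtype with hN'
  have hN'mem : ∀ x : G, x ∈ N' ↔ x ∈ C.M ∧ Odd (orderOf x) := by
    intro x
    constructor
    · rintro ⟨y, hy, rfl⟩
      refine ⟨y.2, ?_⟩
      show Odd (orderOf (y : G))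
      rw [Subgroup.orderOf_coe]
      exact hNodd.of_dvd_nat (Subgroup.orderOf_dvd_natCard _ hy)
    · rintro ⟨hx, hodd⟩
      refine ⟨⟨x, hx⟩, mem_of_sq_mem (by rwa [← Subgroup.orderOf_coe]) ?_, rfl⟩
      exact Subgroup.mul_self_mem_of_index_two hN2 _
  haveI hN'n : N'.Normal := ⟨fun x hx g => by
    rw [hN'mem] at hx ⊢
    refine ⟨(inferInstance : C.M.Normal).conj_mem x hx.1 g, ?_⟩
    rw [← orderOf_eq_of_conj (isConj_iff.mpr ⟨g, rfl⟩ : IsConj x (g * x * g⁻¹))]
    exact hx.2⟩
  haveI hOn : (Cfsg.oddCore G).Normal := H44.pPrimeCore_normal' 2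
  have hOodd : ∀ x ∈ Cfsg.oddCore G, Odd (orderOf x) := fun x hx =>
    (Nat.coprime_two_right.mp (pPrimeCore_card_coprime' 2)).of_dvd_nat
      (Subgroup.orderOf_dvd_natCard _ hx)
  have hsimple := C.isSimple_quotient hperf
  have hOM : Cfsg.oddCore G ≤ C.M := by
    have hnorm : ((Cfsg.oddCore G).map (QuotientGroup.mk' C.M)).Normal :=
      hOn.map _ (QuotientGroup.mk'_surjective C.M)
    rcases hnorm.eq_bot_or_eq_top with h | h
    · rwa [Subgroup.map_eq_bot_iff, QuotientGroup.ker_mk'] at h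
    · exfalso
      have hd := Subgroup.card_map_dvd (H := Cfsg.oddCore G) (QuotientGroup.mk' C.M)
      rw [h, Subgroup.card_top, (C.order_and_fusion hperf).1] at hd
      exact absurd (Nat.eq_one_of_dvd_coprimes (pPrimeCore_card_coprime' 2)
        ((show (2 : ℕ) ∣ 60 by norm_num).trans hd) dvd_rfl) (by norm_num)
  have hON : Cfsg.oddCore G = N' := by
    refine le_antisymm (fun x hx => (hN'mem x).mpr ⟨hOM hx, hOodd x hx⟩) (le_sSup ⟨hN'n, ?_⟩)
    rw [hN', Subgroup.card_map_of_injective C.M.subtype_injective]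
    exact Nat.coprime_two_right.mpr hNodd
  have hOmem : ∀ x : G, x ∈ Cfsg.oddCore G ↔ x ∈ C.M ∧ Odd (orderOf x) := by
    rw [hON]; exact hN'mem
  have hzo : orderOf z = 2 := by
    refine orderOf_eq_prime ?_ h2
    rw [hz, ← pow_two u, ← pow_mul, show 2 * 2 = orderOf u by rw [C.order_four h2],
      pow_orderOf_eq_one]
  have hzO : z ∉ Cfsg.oddCore G := fun h => by
    have := hOodd z h
    rw [hzo] at this
    exact absurd this (by decide)
  have hzM : z ∈ C.M := by
    rw [← QuotientGroup.eq_one_iff, hz, QuotientGroup.mk_mul, C.mk_sq hperf]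
  -- the involution `z` inverts the odd core
  have hcz : ∀ w ∈ Cfsg.oddCore G, z * w = w * z → w = 1 := by
    intro w hwO hwc
    set W : Subgroup G := Cfsg.oddCore G ⊓ Subgroup.centralizer {z} with hW
    have hwW : w ∈ W := ⟨hwO, Subgroup.mem_centralizer_singleton_iff.mpr hwc.symm⟩
    have inv : ∀ x : G, IsConj x u → x * x = z → x * w * x⁻¹ = w⁻¹ := by
      intro x hxu hxx
      refine inverts_of_fpf W x (fun y hy => ⟨hOn.conj_mem y hy.1 x, ?_⟩) ?_
        (fun y hy hc => C.fpf h2 hxu hc (hOodd y hy.1)) w hwW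
      · refine Subgroup.mem_centralizer_singleton_iff.mpr ?_
        have hy2 := Subgroup.mem_centralizer_singleton_iff.mp hy.2
        rw [← hxx] at hy2 ⊢
        calc x * y * x⁻¹ * (x * x) = x * (y * (x * x)) * x⁻¹ := by group
          _ = x * (x * x * y) * x⁻¹ := by rw [hy2]
          _ = x * x * (x * y * x⁻¹) := by group
      · intro y hy
        rw [hxx]
        exact (Subgroup.mem_centralizer_singleton_iff.mp hy.2).symm
    have a := inv u (IsConj.refl u) rfl
    have b := inv v cv hvv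
    have c := inv _ cw hww
    have d : w = w⁻¹ := by
      calc w = (u * w⁻¹ * u⁻¹) := by
            rw [show u * w⁻¹ * u⁻¹ = (u * w * u⁻¹)⁻¹ by group, a, inv_inv]
        _ = u * v * w * (u * v)⁻¹ := by rw [← b]; group
        _ = w⁻¹ := c
    rw [← orderOf_eq_one_iff]
    refine Nat.eq_one_of_dvd_coprimes (Nat.coprime_two_right.mpr (hOodd w hwO)) dvd_rfl
      (orderOf_dvd_of_pow_eq_one ?_)
    rw [pow_two]; exact mul_eq_one_iff_eq_inv.mpr d
  have hzinv : ∀ w ∈ Cfsg.oddCore G, z * w * z⁻¹ = w⁻¹ :=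
    inverts_of_fpf _ z (fun w hw => hOn.conj_mem w hw z)
      (fun w _ => by rw [← pow_two, show 2 = orderOf z from hzo.symm, pow_orderOf_eq_one,
        one_mul, mul_one]) hcz
  refine ⟨⟨⟨fun a b => Subtype.ext ?_⟩⟩, ?_⟩
  · have h := hzinv _ (mul_mem a.2 b.2)
    rw [show z * (a.1 * b.1) * z⁻¹ = (z * a.1 * z⁻¹) * (z * b.1 * z⁻¹) by group, hzinv _ a.2,
      hzinv _ b.2, ← mul_inv_rev, inv_inj] at h
    exact h.symm
  -- the quotient
  obtain ⟨e⟩ := C.equiv_alt hperf
  set O := Cfsg.oddCore G with hO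
  let π : G ⧸ O →* G ⧸ C.M := QuotientGroup.map O C.M (MonoidHom.id G)
    (by rw [Subgroup.comap_id]; exact hOM)
  let θ : G ⧸ O →* alternatingGroup (Fin 5) := e.toMonoidHom.comp π
  have hθker : ∀ x : G, θ (x : G ⧸ O) = 1 ↔ x ∈ C.M := fun x => by
    show e (x : G ⧸ C.M) = 1 ↔ _
    rw [EmbeddingLike.map_eq_one_iff, QuotientGroup.eq_one_iff]
  have hMcases : ∀ x ∈ C.M, (x : G ⧸ O) = 1 ∨ (x : G ⧸ O) = (z : G ⧸ O) := by
    intro x hx
    by_cases hxO : x ∈ O
    · exact Or.inl ((QuotientGroup.eq_one_iff x).mpr hxO)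
    · refine Or.inr (QuotientGroup.eq.mpr ?_)
      rw [hON] at hxO hzO ⊢
      have hx' : (⟨x, hx⟩ : C.M) ∉ N := fun h => hxO ⟨_, h, rfl⟩
      have hz' : (⟨z, hzM⟩ : C.M) ∉ N := fun h => hzO ⟨_, h, rfl⟩
      refine ⟨⟨x, hx⟩⁻¹ * ⟨z, hzM⟩, ?_, rfl⟩
      refine (Subgroup.mul_mem_iff_of_index_two hN2).mpr ?_
      exact iff_of_false (fun h => hx' (by simpa using h)) hz'
  have hz1 : (z : G ⧸ O) ≠ 1 := fun h => hzO ((QuotientGroup.eq_one_iff z).mp h)
  have hzcentral : ∀ y : G ⧸ O, (z : G ⧸ O) * y = y * (z : G ⧸ O) := by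
    intro y
    obtain ⟨g, rfl⟩ := QuotientGroup.mk_surjective y
    rcases hMcases _ ((inferInstance : C.M.Normal).conj_mem z hzM g) with h | h
    · exfalso
      rw [QuotientGroup.mk_mul, QuotientGroup.mk_mul, QuotientGroup.mk_inv, mul_inv_eq_one,
        mul_eq_left] at h
      exact hz1 h
    · rw [QuotientGroup.mk_mul, QuotientGroup.mk_mul, QuotientGroup.mk_inv,
        mul_inv_eq_iff_eq_mul] at h
      exact h.symm
  have hinv : ∀ g : G ⧸ O, H21.Zass.IsInvol g → g = (z : G ⧸ O) := by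
    intro g ⟨hgg, hg1⟩
    obtain ⟨x, rfl⟩ := QuotientGroup.mk_surjective g
    by_cases hxM : x ∈ C.M
    · exact (hMcases x hxM).resolve_left hg1
    · exfalso
      rw [← QuotientGroup.mk_mul, QuotientGroup.eq_one_iff] at hgg
      have hx2 : (x : G ⧸ C.M) * x = 1 := by
        rw [← QuotientGroup.mk_mul, QuotientGroup.eq_one_iff]; exact hOM hgg
      have hxu := C.conj_lift (C.conj_invol hperf hx2 (fun h => hxM ((QuotientGroup.eq_one_iff x).mp h)))
      obtain ⟨ho, -, -⟩ := C.of_isConj h2 hxu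
      have hodd := hOodd _ hgg
      rw [← pow_two, orderOf_pow, ho] at hodd
      exact absurd hodd (by decide)
  have hcov : H21.Zass.IsCover θ := by
    refine ⟨fun g hg => ?_, fun g hg => ⟨fun y => ?_, fun g' hg' => (hinv g' hg').trans (hinv g hg).symm⟩⟩
    · obtain ⟨x, rfl⟩ := QuotientGroup.mk_surjective g
      rcases hMcases x ((hθker x).mp hg) with h | h
      · rw [h, mul_one]
      · rw [h, ← QuotientGroup.mk_mul, ← pow_two, show 2 = orderOf z from hzo.symm,
          pow_orderOf_eq_one]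
        rfl
    · rw [hinv g hg]; exact hzcentral y
  refine H21.Zass.equiv_SL hcov ?_ ?_ (z := (z : G ⧸ O)) ⟨?_, hz1⟩ ((hθker z).mpr hzM)
  · refine e.surjective.comp ?_
    intro y
    obtain ⟨x, rfl⟩ := QuotientGroup.mk_surjective y
    exact ⟨(x : G ⧸ O), rfl⟩
  · have := congrArg (Subgroup.map (QuotientGroup.mk' O)) hperf
    rwa [commutator_def, Subgroup.map_commutator,
      Subgroup.map_top_of_surjective _ (QuotientGroup.mk'_surjective O), ← commutator_def] at this
  · rw [← QuotientGroup.mk_mul, ← pow_two, show 2 = orderOf z from hzo.symm, pow_orderOf_eq_one]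
    rfl

end Chars

end Cfsg.Agent.H44.ConstantFour
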