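import Cfsg.Agent.H44.ConstantFour.Count
import Cfsg.Agent.H42.ClassMult
import Cfsg.Agent.H6.SmallOrder
import Cfsg.Agent.H1.SmallIso

/-!
# Groups with `χ(1) - χ(u) = 4` or `χ(u) = 0`: the quotient of order sixty
-/

set_option autoImplicit false
open scoped ComplexConjugate

namespace Cfsg.Agent.H44.ConstantFour

variable {G : Type*} [Group G] [Finite G]

/-- Three numbers of modulus one with sum `-1` and product `1` square to `1`. -/
theorem three_roots {m : ℕ} (hm : m = 3) (μ : Fin m → ℂ) (htr : (-1 : ℂ) = ∑ i, μ i)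
    (hdet : ∏ i, μ i = 1) (hconj : ∀ i, conj (μ i) * μ i = 1) (i : Fin m) : μ i * μ i = 1 := by
  subst hm
  simp only [Fin.sum_univ_three] at htr
  simp only [Fin.prod_univ_three] at hdet
  have hc : conj (μ 0) + conj (μ 1) + conj (μ 2) = -1 := by
    have := congrArg conj htr
    simp only [map_add, map_neg, map_one] at this
    linear_combination -this
  have he2 : μ 0 * μ 1 + μ 0 * μ 2 + μ 1 * μ 2 = -1 := by
    linear_combination hc + (conj (μ 0) + conj (μ 1) + conj (μ 2)) * hdet -
      (μ 1 * μ 2) * hconj 0 - (μ 0 * μ 2) * hconj 1 - (μ 0 * μ 1) * hconj 2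
  have key : (μ i - 1) * ((μ i + 1) * (μ i + 1)) = 0 := by
    fin_cases i
    all_goals try simp only [Fin.zero_eta, Fin.mk_one, Fin.reduceFinMk, Fin.isValue]
    · linear_combination -(μ 0) * (μ 0) * htr + (μ 0) * he2 * (-1) + hdet * 1
    · linear_combination -(μ 1) * (μ 1) * htr + (μ 1) * he2 * (-1) + hdet * 1
    · linear_combination -(μ 2) * (μ 2) * htr + (μ 2) * he2 * (-1) + hdet * 1
  rcases mul_eq_zero.mp key with h | h
  · rw [sub_eq_zero.mp h, one_mul]
  · rw [eq_neg_of_add_eq_zero_left ((mul_self_eq_zero).mp h), neg_mul_neg, one_mul]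

/-- In a perfect group, an element with value `-1` in a character of degree 3 squares into its
kernel. -/
theorem sq_mem_kerOf (hperf : commutator G = ⊤) (χ : Cfsg.IrrCharacter G) (h1 : χ.1 1 = 3) {u : G}
    (hu : χ.1 u = -1) : u * u ∈ kerOf χ := by
  obtain ⟨n, ρ, hρ, e⟩ := χ.2
  have hd : (Module.finrank ℂ (Fin n → ℂ) : ℂ) = 3 := by rw [← ρ.char_one, e, h1]
  have hd' : Module.finrank ℂ (Fin n → ℂ) = 3 := by exact_mod_cast hd
  obtain ⟨b, μ, hb, hμ, htr⟩ := H25.exists_eigenbasis ρ u
  have hdet : LinearMap.det (ρ u) = 1 := by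
    let d : G →* ℂ := LinearMap.det.comp ρ
    have hk : commutator G ≤ d.ker := by
      rw [commutator_def, Subgroup.commutator_le]
      intro x _ y _
      rw [MonoidHom.mem_ker, commutatorElement_def]
      simp only [map_mul]
      have hx : d x * d x⁻¹ = 1 := by rw [← map_mul, mul_inv_cancel, map_one]
      have hy : d y * d y⁻¹ = 1 := by rw [← map_mul, mul_inv_cancel, map_one]
      linear_combination (d y * d y⁻¹) * hx + hy
    exact hk (hperf ▸ Subgroup.mem_top u)
  have hM : LinearMap.toMatrix b b (ρ u) = Matrix.diagonal μ := by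
    ext i j
    rw [LinearMap.toMatrix_apply, hb, map_smul, b.repr_self]
    by_cases h : i = j
    · subst h; simp
    · simp [Matrix.diagonal_apply_ne _ h, Finsupp.single_apply, Ne.symm h]
  rw [← LinearMap.det_toMatrix b, hM, Matrix.det_diagonal] at hdet
  rw [e, hu] at htr
  have hconj : ∀ i, conj (μ i) * μ i = 1 := fun i => by
    rw [Complex.conj_mul', Complex.norm_eq_one_of_pow_eq_one (hμ i) (orderOf_pos u).ne']
    simp
  have hsq : ∀ i, μ i * μ i = 1 := three_roots hd' μ htr hdet hconj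
  have hid : ρ (u * u) = 1 := by
    refine b.ext fun i => ?_
    rw [map_mul, Module.End.mul_apply, hb, map_smul, hb, smul_smul, hsq, one_smul,
      Module.End.one_apply]
  rw [mem_kerOf, ← e, Representation.character, hid, Representation.char_one,
    LinearMap.trace_one]

namespace Chars

variable {u : G} (C : Chars u)

/-- The kernel of the first character. -/
def M : Subgroup G := kerOf C.a

instance M_normal : C.M.Normal := kerOf_normal _

theorem mk_ne_one : (u : G ⧸ C.M) ≠ 1 := by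
  intro h
  rw [QuotientGroup.eq_one_iff, M, mem_kerOf, C.val.1, C.deg.1] at h
  norm_num at h

theorem mk_sq (hperf : commutator G = ⊤) : (u : G ⧸ C.M) * (u : G ⧸ C.M) = 1 := by
  rw [← QuotientGroup.mk_mul, QuotientGroup.eq_one_iff]
  exact sq_mem_kerOf hperf C.a C.deg.1 C.val.1

/-- The other two characters are trivial on `M` too. -/
theorem le_kerOf : C.M ≤ kerOf C.b ∧ C.M ≤ kerOf C.c := by
  classical
  haveI := Fintype.ofFinite G
  haveI := Fintype.ofFinite (G ⧸ C.M)
  have h := H26.column_orthogonality (u : G ⧸ C.M) (1 : G ⧸ C.M)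
  rw [show H26.classIndicator (1 : G ⧸ C.M) (u : G ⧸ C.M) = 0 from
    if_neg (fun h => C.mk_ne_one (isConj_one_left.mp h)), mul_zero] at h
  have h2 : ∑ χ ∈ Finset.univ.filter (fun χ : Cfsg.IrrCharacter G => C.M ≤ kerOf χ),
      χ.1 u * conj (χ.1 1) = 0 := by
    rw [sum_filter_le_kerOf C.M (fun χ => χ.1 u * conj (χ.1 1)), ← h]
    rfl
  rw [Finset.sum_filter, C.sum_eq _ (fun χ h0 => by simp [h0]),
    if_pos (kerOf_oneIrr (G := G) ▸ le_top), if_pos (show C.M ≤ kerOf C.a from le_rfl),
    H26.oneIrr_val, H26.oneIrr_val, C.val.1, C.val.2.1, C.val.2.2, C.deg.1, C.deg.2.1,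
    C.deg.2.2] at h2
  split_ifs at h2 with hb hc hc
  · exact ⟨hb, hc⟩
  all_goals
    exfalso
    simp only [map_one, map_ofNat] at h2
    norm_num at h2

/-- A sum over the characters of the quotient. -/
theorem sum_quot_eq [Fintype G] [Fintype (Cfsg.IrrCharacter (G ⧸ C.M))]
    (F : Cfsg.IrrCharacter G → ℂ) (hF : ∀ χ, χ.1 u = 0 → F χ = 0) :
    ∑ ψ : Cfsg.IrrCharacter (G ⧸ C.M), F (inflate C.M ψ) =
      F (H26.oneIrr G) + (F C.a + (F C.b + F C.c)) := by
  classical
  have h := sum_filter_le_kerOf C.M F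
  rw [Finset.sum_filter, C.sum_eq _ (fun χ h0 => by simp [hF χ h0]),
    if_pos (kerOf_oneIrr (G := G) ▸ le_top), if_pos (show C.M ≤ kerOf C.a from le_rfl),
    if_pos C.le_kerOf.1, if_pos C.le_kerOf.2] at h
  rw [h]
  convert rfl

theorem card_centralizer_mk :
    Nat.card (Subgroup.centralizer ({(u : G ⧸ C.M)} : Set (G ⧸ C.M))) = 4 := by
  classical
  haveI := Fintype.ofFinite G
  have h := sum_norm_sq_quotient C.M u
  rw [Finset.sum_filter, C.sum_eq _ (fun χ h0 => by simp [h0]),
    if_pos (kerOf_oneIrr (G := G) ▸ le_top), if_pos (show C.M ≤ kerOf C.a from le_rfl),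
    if_pos C.le_kerOf.1, if_pos C.le_kerOf.2, H26.oneIrr_val, C.val.1, C.val.2.1, C.val.2.2] at h
  norm_num at h
  rw [Nat.card_eq_fintype_card]
  exact_mod_cast h.symm

theorem perfect_quotient (hperf : commutator G = ⊤) : commutator (G ⧸ C.M) = ⊤ := by
  have := congrArg (Subgroup.map (QuotientGroup.mk' C.M)) hperf
  rwa [commutator_def, Subgroup.map_commutator,
    Subgroup.map_top_of_surjective _ (QuotientGroup.mk'_surjective C.M), ← commutator_def] at this

/-- The quotient has order 60 and the elements other than `1` of the centralizer of the image of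
`u` are conjugate to it. -/
theorem order_and_fusion (hperf : commutator G = ⊤) :
    Nat.card (G ⧸ C.M) = 60 ∧ ∀ x : G ⧸ C.M, x * (u : G ⧸ C.M) = (u : G ⧸ C.M) * x → x ≠ 1 →
      IsConj x (u : G ⧸ C.M) := by
  classical
  haveI := Fintype.ofFinite G
  haveI := Fintype.ofFinite (G ⧸ C.M)
  set q : G ⧸ C.M := (u : G ⧸ C.M) with hq
  have hq1 : q ≠ 1 := C.mk_ne_one
  have hq2 : q * q = 1 := C.mk_sq hperf
  have h := H42.pairCount_formula q q q
  have hs : ∑ χ : Cfsg.IrrCharacter (G ⧸ C.M), conj (χ.1 q) * conj (χ.1 q) *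
        χ.1 q / χ.1 1 = 8 / 15 := by
    refine (C.sum_quot_eq (fun χ => conj (χ.1 u) * conj (χ.1 u) * χ.1 u / χ.1 1)
      (fun χ h0 => by simp [h0])).trans ?_
    simp only [H26.oneIrr_val, C.val.1, C.val.2.1, C.val.2.2, C.deg.1, C.deg.2.1, C.deg.2.2,
      map_neg, map_one]
    norm_num
  rw [hs] at h
  set i := (Subgroup.centralizer ({q} : Set (G ⧸ C.M))).index with hi
  have hcard : Nat.card (G ⧸ C.M) = 4 * i := by
    rw [hi, ← C.card_centralizer_mk, Subgroup.card_mul_index]
  have hipos : 0 < i := Nat.pos_of_ne_zero Subgroup.index_ne_zero_of_finite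
  rw [hcard] at h
  push_cast at h
  have h15 : 15 * H42.pairCount q q q = 2 * i := by
    have : (15 : ℂ) * (H42.pairCount q q q : ℂ) = 2 * (i : ℂ) := by
      rw [h]
      field_simp
      try ring
    exact_mod_cast this
  set Cq := Subgroup.centralizer ({q} : Set (G ⧸ C.M)) with hCq
  have hset : {x : G ⧸ C.M | IsConj x q ∧ IsConj (x⁻¹ * q) q} ⊆ (Cq : Set (G ⧸ C.M)) \ {1, q} := by
    rintro x ⟨hx, hy⟩
    have sq_one : ∀ y, IsConj y q → y * y = 1 := by
      intro y hy
      obtain ⟨g, rfl⟩ := isConj_iff.mp hy.symm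
      rw [conj_mul, hq2, mul_one, mul_inv_cancel]
    have hx2 := sq_one x hx
    have hy2 := sq_one _ hy
    have hxi : x⁻¹ = x := inv_eq_of_mul_eq_one_left hx2
    have hqi : q⁻¹ = q := inv_eq_of_mul_eq_one_left hq2
    rw [hxi] at hy2
    refine ⟨Subgroup.mem_centralizer_singleton_iff.mpr ?_, ?_⟩
    · have : x * q = q⁻¹ * x⁻¹ := (eq_inv_of_mul_eq_one_left hy2).trans (mul_inv_rev x q)
      rw [this, hxi, hqi]
    · rintro (e | e)
      · exact hq1 (isConj_one_right.mp (e ▸ hx))
      · subst e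
        rw [inv_mul_cancel] at hy
        exact hq1 (isConj_one_right.mp hy)
  have hN : H42.pairCount q q q = ({x : G ⧸ C.M | IsConj x q ∧ IsConj (x⁻¹ * q) q}).ncard := by
    rw [H42.pairCount, ← Nat.card_coe_set_eq]; rfl
  have h2 : ((Cq : Set (G ⧸ C.M)) \ {1, q}).ncard = 2 := by
    rw [Set.ncard_sdiff, Set.ncard_pair hq1.symm]
    · have : (Cq : Set (G ⧸ C.M)).ncard = 4 := by
        rw [← Nat.card_coe_set_eq]; exact C.card_centralizer_mk
      omega
    · rintro y (rfl | rfl)
      · exact one_mem _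
      · exact Subgroup.mem_centralizer_singleton_iff.mpr rfl
  have hle := Set.ncard_le_ncard hset
  rw [← hN, h2] at hle
  have hN2 : H42.pairCount q q q = 2 := by omega
  refine ⟨by omega, fun x hx hx1 => ?_⟩
  by_cases hxq : x = q
  · rw [hxq]
  · have heq : {x : G ⧸ C.M | IsConj x q ∧ IsConj (x⁻¹ * q) q} = (Cq : Set (G ⧸ C.M)) \ {1, q} :=
      Set.eq_of_subset_of_ncard_le hset (by rw [← hN, h2, hN2])
    have hmem : x ∈ (Cq : Set (G ⧸ C.M)) \ {1, q} :=
      ⟨Subgroup.mem_centralizer_singleton_iff.mpr hx, by simp [hx1, hxq]⟩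
    rw [← heq] at hmem
    exact hmem.1

/-- The quotient is the alternating group of degree five. -/
theorem equiv_alt (hperf : commutator G = ⊤) :
    Nonempty ((G ⧸ C.M) ≃* alternatingGroup (Fin 5)) := by
  refine (H6.nonempty_equiv_alternating_five (fun hs => ?_) (C.order_and_fusion hperf).1.le).2
  haveI : Nontrivial (G ⧸ C.M) := ⟨⟨_, 1, C.mk_ne_one⟩⟩
  exact (IsSolvable.commutator_lt_top_of_nontrivial (G ⧸ C.M)).ne (C.perfect_quotient hperf)

end Chars

end Cfsg.Agent.H44.ConstantFour
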