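import Cfsg.Agent.H44.ConstantFour.Quotient
import Cfsg.Agent.H44.TISylow
import Cfsg.Agent.H29.TwoTransfer
import Cfsg.Agent.H21.Zassenhaus.Recognition

/-!
# Groups with `χ(1) - χ(u) = 4` or `χ(u) = 0`: the structure
-/

set_option autoImplicit false

namespace Cfsg.Agent.H44.ConstantFour

variable {G : Type*} [Group G] [Finite G]

omit [Finite G] in
/-- An involution inverts what it multiplies to an involution. -/
theorem inverts_of_sq {x t : G} (h : x * t * (x * t) = x * x) (hc : x * x * t = t * (x * x)) :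
    x * t * x⁻¹ = t⁻¹ := by
  have h1 : t * x * t = x := mul_left_cancel (a := x) (by rw [← h]; group)
  calc x * t * x⁻¹ = t⁻¹ * (t * x * t) * x⁻¹ := by group
    _ = t⁻¹ := by rw [h1]; group

/-- An element acting as a fixed-point-free involution inverts. -/
theorem inverts_of_fpf (W : Subgroup G) (x : G) (hW : ∀ w ∈ W, x * w * x⁻¹ ∈ W)
    (h2 : ∀ w ∈ W, x * x * w = w * (x * x)) (hfix : ∀ w ∈ W, x * w = w * x → w = 1) :
    ∀ w ∈ W, x * w * x⁻¹ = w⁻¹ := by
  let φ : W →* W :=
    { toFun := fun w => ⟨x * w.1 * x⁻¹, hW _ w.2⟩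
      map_one' := Subtype.ext (by simp)
      map_mul' := fun a b => Subtype.ext (by simp [mul_assoc]) }
  have hφ : MonoidHom.FixedPointFree φ := fun w hw => Subtype.ext <| hfix _ w.2 (by
    have := congrArg Subtype.val hw
    exact mul_inv_eq_iff_eq_mul.mp this)
  have hinv : Function.Involutive φ := fun w => Subtype.ext (by
    show x * (x * w.1 * x⁻¹) * x⁻¹ = w.1
    calc x * (x * w.1 * x⁻¹) * x⁻¹ = (x * x * w.1) * (x * x)⁻¹ := by group
      _ = w.1 := by rw [h2 _ w.2]; group)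
  intro w hw
  exact congrArg Subtype.val (congrFun (hφ.coe_eq_inv_of_involutive hinv) ⟨w, hw⟩)

namespace Chars

variable {u : G} (C : Chars u) (hperf : commutator G = ⊤)

include hperf

theorem isSimple_quotient : IsSimpleGroup (G ⧸ C.M) := by
  obtain ⟨e⟩ := C.equiv_alt hperf
  have := alternatingGroup.isSimpleGroup (α := Fin 5) (by simp)
  exact e.isSimpleGroup

/-- All involutions of the quotient are conjugate. -/
theorem conj_invol {y : G ⧸ C.M} (h : y * y = 1) (h1 : y ≠ 1) :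
    IsConj y (u : G ⧸ C.M) := by
  classical
  have : Fact (Nat.Prime 2) := ⟨Nat.prime_two⟩
  obtain ⟨h60, hfus⟩ := C.order_and_fusion hperf
  have hfac : (Nat.card (G ⧸ C.M)).factorization 2 = 2 := by
    rw [h60, show (60 : ℕ) = 2 ^ 2 * 15 by norm_num, Nat.factorization_mul (by norm_num) (by norm_num),
      Nat.Prime.factorization_pow Nat.prime_two]
    simp [Nat.factorization_eq_zero_of_not_dvd (show ¬ 2 ∣ 15 by norm_num)]
  set P0 : Sylow 2 (G ⧸ C.M) := Sylow.ofCard (Subgroup.centralizer {(u : G ⧸ C.M)})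
    (by rw [C.card_centralizer_mk, hfac]; norm_num) with hP0
  have hy : IsPGroup 2 (Subgroup.zpowers y) := IsPGroup.of_card (n := 1) (by
    rw [Nat.card_zpowers, pow_one]
    exact orderOf_eq_prime (by rw [pow_two, h]) h1)
  obtain ⟨Q, hQ⟩ := hy.exists_le_sylow
  obtain ⟨g, rfl⟩ := MulAction.exists_smul_eq (G ⧸ C.M) P0 Q
  have hmem := hQ (Subgroup.mem_zpowers y)
  rw [Sylow.coe_subgroup_smul, Subgroup.mem_pointwise_smul_iff_inv_smul_mem, ← map_inv,
    MulAut.smul_def, MulAut.conj_apply, inv_inv] at hmem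
  have hmem' : g⁻¹ * y * g ∈ Subgroup.centralizer {(u : G ⧸ C.M)} := hmem
  refine IsConj.trans (isConj_iff.mpr ⟨g⁻¹, by rw [inv_inv]⟩) (hfus (g⁻¹ * y * g)
    (Subgroup.mem_centralizer_singleton_iff.mp hmem') fun e => h1 ?_)
  calc y = g * (g⁻¹ * y * g) * g⁻¹ := by group
    _ = 1 := by rw [e]; group

omit hperf in
/-- The preimage of the class of the image of `u` is the class of `u`. -/
theorem conj_lift {x : G} (h : IsConj (x : G ⧸ C.M) (u : G ⧸ C.M)) : IsConj x u := by
  classical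
  set t : Set (G ⧸ C.M) := {y | IsConj (u : G ⧸ C.M) y}
  have hsub : {x : G | IsConj u x} ⊆ QuotientGroup.mk (s := C.M) ⁻¹' t := fun y hy =>
    (QuotientGroup.mk' C.M).map_isConj hy
  have hcard : (QuotientGroup.mk (s := C.M) ⁻¹' t).ncard ≤ {x : G | IsConj u x}.ncard := by
    rw [← Nat.card_coe_set_eq, ← Nat.card_coe_set_eq,
      Nat.card_congr (QuotientGroup.preimageMkEquivSubgroupProdSet C.M t), Nat.card_prod]
    have h1 := card_isConj_mul_card_centralizer (G := G) u
    have h2 := card_isConj_mul_card_centralizer (G := G ⧸ C.M) (u : G ⧸ C.M)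
    rw [C.card_centralizer] at h1
    rw [C.card_centralizer_mk] at h2
    have h3 := Subgroup.card_eq_card_quotient_mul_card_subgroup C.M
    show Nat.card C.M * Nat.card {y : G ⧸ C.M // IsConj (u : G ⧸ C.M) y} ≤
      Nat.card {x : G // IsConj u x}
    nlinarith
  have heq := Set.eq_of_subset_of_ncard_le hsub hcard
  have hx : x ∈ QuotientGroup.mk (s := C.M) ⁻¹' t := h.symm
  rw [← heq] at hx
  exact hx.symm

theorem conj_lift_of_commute {x : G} (hc : (x : G ⧸ C.M) * (u : G ⧸ C.M) = (u : G ⧸ C.M) * x)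
    (h1 : (x : G ⧸ C.M) ≠ 1) : IsConj x u :=
  C.conj_lift ((C.order_and_fusion hperf).2 _ hc h1)

omit hperf in
theorem exists_third : ∃ v : G ⧸ C.M, v * (u : G ⧸ C.M) = (u : G ⧸ C.M) * v ∧ v ≠ 1 ∧
    v ≠ (u : G ⧸ C.M) := by
  classical
  by_contra hcon
  push Not at hcon
  have hsub : (Subgroup.centralizer {(u : G ⧸ C.M)} : Set (G ⧸ C.M)) ⊆
      {1, (u : G ⧸ C.M)} := fun v hv => by
    by_cases h1 : v = 1
    · exact Or.inl h1
    · exact Or.inr (hcon v (Subgroup.mem_centralizer_singleton_iff.mp hv) h1)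
  have h := (Set.ncard_le_ncard hsub).trans (Set.ncard_insert_le _ _)
  rw [Set.ncard_singleton, ← Nat.card_coe_set_eq] at h
  have := C.card_centralizer_mk
  change Nat.card (Subgroup.centralizer {(u : G ⧸ C.M)}) ≤ 2 at h
  omega

/-- An involution `u` gives `G = PSL(2,5)`. -/
theorem structure_two (h2 : u * u = 1) : C.M = ⊥ := by
  classical
  obtain ⟨v', hv, hv1, hvu⟩ := C.exists_third
  obtain ⟨v, rfl⟩ := QuotientGroup.mk_surjective v'
  have hq1 := C.mk_ne_one
  have hq2 := C.mk_sq hperf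
  have hm : ∀ m ∈ C.M, ((m : G) : G ⧸ C.M) = 1 := fun m hm => (QuotientGroup.eq_one_iff m).mpr hm
  have hsq : ∀ x : G, IsConj x u → x * x = 1 := by
    intro x hx
    obtain ⟨g, rfl⟩ := isConj_iff.mp hx.symm
    rw [conj_mul, h2, mul_one, mul_inv_cancel]
  have hu' : ∀ m ∈ C.M, IsConj (u * m) u := fun m h => C.conj_lift_of_commute hperf
    (by rw [QuotientGroup.mk_mul, hm m h, mul_one]) (by rw [QuotientGroup.mk_mul, hm m h, mul_one]; exact hq1)
  have hv' : ∀ m ∈ C.M, IsConj (v * m) u := fun m h => C.conj_lift_of_commute hperf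
    (by rw [QuotientGroup.mk_mul, hm m h, mul_one]; exact hv)
    (by rw [QuotientGroup.mk_mul, hm m h, mul_one]; exact hv1)
  have hw1 : (u : G ⧸ C.M) * (v : G ⧸ C.M) ≠ 1 := fun e => hvu
    ((eq_inv_of_mul_eq_one_right e).trans (inv_eq_of_mul_eq_one_left hq2))
  have hwc : (u : G ⧸ C.M) * (v : G ⧸ C.M) * (u : G ⧸ C.M) =
      (u : G ⧸ C.M) * ((u : G ⧸ C.M) * (v : G ⧸ C.M)) := by rw [mul_assoc, hv]
  have hw' : ∀ m ∈ C.M, IsConj (u * v * m) u := fun m h => C.conj_lift_of_commute hperf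
    (by rw [QuotientGroup.mk_mul, hm m h, mul_one, QuotientGroup.mk_mul]; exact hwc)
    (by rw [QuotientGroup.mk_mul, hm m h, mul_one, QuotientGroup.mk_mul]; exact hw1)
  have hv2 : v * v = 1 := hsq v (by simpa using hv' 1 (one_mem _))
  have hw2 : u * v * (u * v) = 1 := hsq _ (by simpa using hw' 1 (one_mem _))
  have huv : u * v = v * u := by
    rw [eq_inv_of_mul_eq_one_left hw2, mul_inv_rev, inv_eq_of_mul_eq_one_left h2,
      inv_eq_of_mul_eq_one_left hv2]
  have inv : ∀ x : G, (∀ m ∈ C.M, IsConj (x * m) u) → x * x = 1 → ∀ m ∈ C.M,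
      x * m * x⁻¹ = m⁻¹ := fun x hx hxx m h =>
    inverts_of_sq (by rw [hsq _ (hx m h), hxx]) (by rw [hxx, one_mul, mul_one])
  have hcent : ∀ m ∈ C.M, u * m = m * u := by
    intro m h
    have a := inv u hu' h2 m h
    have b := inv v hv' hv2 m h
    have c := inv _ hw' hw2 m h
    have d : m = m⁻¹ := by
      calc m = (u * m⁻¹ * u⁻¹) := by
            rw [show u * m⁻¹ * u⁻¹ = (u * m * u⁻¹)⁻¹ by group, a, inv_inv]
        _ = u * v * m * (u * v)⁻¹ := by rw [← b]; group
        _ = m⁻¹ := c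
    rw [← d] at a
    exact mul_inv_eq_iff_eq_mul.mp a
  let g : Fin 3 → G := ![1, u, v]
  have hg : ∀ (j : Fin 3) (m : C.M), g j * m.1 ∈ Subgroup.centralizer ({u} : Set G) := by
    intro j m
    rw [Subgroup.mem_centralizer_singleton_iff, mul_assoc, ← hcent _ m.2, ← mul_assoc, ← mul_assoc]
    congr 1
    fin_cases j <;> simp [g, huv]
  let F : C.M × Fin 3 → Subgroup.centralizer ({u} : Set G) := fun p => ⟨g p.2 * p.1.1, hg _ _⟩
  have hF : Function.Injective F := by
    rintro ⟨m, j⟩ ⟨m', j'⟩ h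
    have h' : g j * m.1 = g j' * m'.1 := congrArg Subtype.val h
    have hjj : j = j' := by
      have := congrArg (fun x : G => (x : G ⧸ C.M)) h'
      simp only [QuotientGroup.mk_mul, hm _ m.2, hm _ m'.2, mul_one] at this
      revert this
      fin_cases j <;> fin_cases j' <;>
        simp [g, hq1, hq1.symm, hv1, Ne.symm hv1, hvu, Ne.symm hvu, -QuotientGroup.eq_one_iff]
    subst hjj
    exact Prod.ext (Subtype.ext (mul_left_cancel h')) rfl
  have := Nat.card_le_card_of_injective F hF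
  rw [Nat.card_prod, C.card_centralizer, Nat.card_eq_fintype_card (α := Fin 3),
    Fintype.card_fin] at this
  have hpos : 0 < Nat.card C.M := Nat.card_pos
  exact Subgroup.card_eq_one.mp (by omega)

end Chars

end Cfsg.Agent.H44.ConstantFour
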